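import Cfsg.Agent.Lib.InvChar.SporData.SuzA.PermData

set_option autoImplicit false
set_option maxRecDepth 100000

namespace CfsgLib.InvChar.Coset.SuzA

theorem orbit2_ok : ∀ j < 1024, Table.OrbitOK tab2 [[0], [1], [2], [3]] orb2Pts orb2Pos orb2Par 1024 j :=
  fun j hj => Table.chkOrbit_get tab2 [[0], [1], [2], [3]] orb2Pts orb2Pos orb2Par 1024 1024 0 (by decide +kernel) j (Nat.zero_le j) (by omega)

theorem base2 : field orb2Pts 128 20 0 = 2 := by decide +kernel

theorem derived3 : tab2.chkDerived tab3 words3 1782 0 = true := by decide +kernel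

end CfsgLib.InvChar.Coset.SuzA
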