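import Cfsg.Agent.Lib.InvChar.SporData.SuzA.Data
import Cfsg.Agent.Lib.InvChar.CosetPerm

set_option autoImplicit false
set_option maxRecDepth 100000

namespace CfsgLib.InvChar.Coset.SuzA

/-- words of prime order -/
def seedWords : List (List ℕ) := [[6, 2, 5, 1, 4, 3, 6, 2, 5, 1, 4, 3, 6, 2, 5, 1, 4, 3, 6, 2, 5, 1, 4, 3, 6, 2, 5, 1, 4, 3, 6, 2, 5, 1, 4, 3, 6, 2, 5, 1, 4, 3, 6, 2, 5, 1, 4, 3, 6, 2, 5, 1, 4, 3, 6, 2, 5, 1, 4, 3, 6, 2, 5, 1, 4, 3], [3, 4, 1, 5, 2, 6, 0, 3, 4, 1, 5, 2, 6, 0, 3, 4, 1, 5, 2, 6, 0, 3, 4, 1, 5, 2, 6, 0, 3, 4, 1, 5, 2, 6, 0, 3, 4, 1, 5, 2, 6, 0, 3, 4, 1, 5, 2, 6, 0, 3, 4, 1, 5, 2, 6, 0, 3, 4, 1, 5, 2, 6, 0, 3, 4, 1, 5, 2, 6, 0, 3, 4, 1, 5, 2, 6, 0], [4, 2, 1, 6, 5, 1, 4, 3, 6, 4,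 6, 2, 4, 1, 0, 4, 4, 2, 1, 6, 5, 1, 4, 3, 6, 4, 6, 2, 4, 1, 0, 4, 4, 2, 1, 6, 5, 1, 4, 3, 6, 4, 6, 2, 4, 1, 0, 4, 4, 2, 1, 6, 5, 1, 4, 3, 6, 4, 6, 2, 4, 1, 0, 4, 4, 2, 1, 6, 5, 1, 4, 3, 6, 4, 6, 2, 4, 1, 0, 4, 4, 2, 1, 6, 5, 1, 4, 3, 6, 4, 6, 2, 4, 1, 0, 4, 4, 2, 1, 6, 5, 1, 4, 3, 6, 4, 6, 2, 4, 1, 0, 4, 4, 2, 1, 6, 5, 1, 4, 3, 6, 4, 6, 2, 4, 1, 0, 4, 4, 2, 1, 6, 5, 1, 4, 3, 6, 4, 6, 2, 4, 1, 0, 4, 4, 2, 1, 6, 5, 1, 4, 3, 6, 4, 6, 2, 4, 1, 0, 4, 4, 2, 1, 6, 5, 1, 4, 3, 6, 4, 6, 2, 4, 1, 0, 4], [4, 0, 1, 4, 2, 6, 4, 6, 3, 4, 1, 5, 6, 1, 2, 4, 3, 4, 0, 1, 4, 2, 6, 4, 6, 3, 4, 1, 5, 6, 1, 2, 4, 3, 4, 0, 1, 4, 2, 6, 4, 6, 3, 4, 1, 5, 6, 1, 2, 4, 3, 4, 0, 1, 4, 2, 6, 4, 6, 3, 4, 1, 5, 6, 1, 2, 4, 3, 4, 0, 1, 4,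 2, 6, 4, 6, 3, 4, 1, 5, 6, 1, 2, 4, 3, 4, 0, 1, 4, 2, 6, 4, 6, 3, 4, 1, 5, 6, 1, 2, 4, 3, 4, 0, 1, 4, 2, 6, 4, 6, 3, 4, 1, 5, 6, 1, 2, 4, 3, 4, 0, 1, 4, 2, 6, 4, 6, 3, 4, 1, 5, 6, 1, 2, 4, 3, 4, 0, 1, 4, 2, 6, 4, 6, 3, 4, 1, 5, 6, 1, 2, 4, 3, 4, 0, 1, 4, 2, 6, 4, 6, 3, 4, 1, 5, 6, 1, 2, 4, 3, 4, 0, 1, 4, 2, 6, 4, 6, 3, 4, 1, 5, 6, 1, 2, 4, 3]]
theorem chk_seeds0 : table.chkPoints seedWords 1200 0 = true := by decide +kernel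

theorem chk_seeds1 : table.chkPoints seedWords 582 1200 = true := by decide +kernel

theorem seeds_fix : ∀ i < 1782, ∀ L ∈ seedWords, table.follow L i = i := by
  intro i hi
  rcases Nat.lt_or_ge i 1200 with h0 | h0
  · exact (table.chkPoints_get seedWords 1200 0 chk_seeds0 i (by omega) (by omega)).2
  rcases Nat.lt_or_ge i 1782 with h1 | h1
  · exact (table.chkPoints_get seedWords 582 1200 chk_seeds1 i (by omega) (by omega)).2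
  omega

end CfsgLib.InvChar.Coset.SuzA
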